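import Mathlib

/-! Minimal normal subgroups of solvable primitive groups. -/
set_option autoImplicit false

namespace CfsgLib.PLocal
open Subgroup

variable {G : Type*} [Group G]

theorem minNormal_solvable [Finite G] [Group.IsSolvable G] (M : Subgroup G) [hMn : M.Normal] (hM : M ≠ ⊥)
    (hmin : ∀ K : Subgroup G, K.Normal → K ≤ M → K = ⊥ ∨ K = M) :
    (∀ a ∈ M, ∀ b ∈ M, a * b = b * a) ∧ ∃ p d : ℕ, p.Prime ∧ 0 < d ∧ Nat.card M = p ^ d := by
  classical
  have hcomm : ⁅M, M⁆ = ⊥ := by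
    refine (hmin _ (Subgroup.commutator_normal M M) (Subgroup.commutator_le_left M M)).resolve_right fun h => ?_
    have hall : ∀ n, M ≤ derivedSeries G n := by
      intro n
      induction n with
      | zero => rw [derivedSeries_zero]; exact le_top
      | succ n ih => rw [derivedSeries_succ, ← h]; exact Subgroup.commutator_mono ih ih
    obtain ⟨n, hn⟩ := ‹Group.IsSolvable G›.solvable
    exact hM (le_bot_iff.1 ((hall n).trans hn.le))
  have hab : ∀ a ∈ M, ∀ b ∈ M, a * b = b * a := fun a ha b hb => by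
    have := Subgroup.commutator_mem_commutator ha hb
    rwa [hcomm, mem_bot, commutatorElement_eq_one_iff_mul_comm] at this
  refine ⟨hab, ?_⟩
  obtain ⟨p, hp, hpd⟩ := Nat.exists_prime_and_dvd (fun h => hM (Subgroup.card_eq_one.1 h) : Nat.card M ≠ 1)
  haveI := Fact.mk hp
  let K : Subgroup G :=
    { carrier := {x | x ∈ M ∧ x ^ p = 1}
      one_mem' := ⟨M.one_mem, one_pow p⟩
      mul_mem' := fun {a b} ha hb => ⟨M.mul_mem ha.1 hb.1, by
        rw [(show Commute a b from hab a ha.1 b hb.1).mul_pow, ha.2, hb.2, one_mul]⟩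
      inv_mem' := fun {a} ha => ⟨M.inv_mem ha.1, by rw [inv_pow, ha.2, inv_one]⟩ }
  have hKn : K.Normal := ⟨fun x hx g => ⟨hMn.conj_mem x hx.1 g, by rw [conj_pow, hx.2, mul_one, mul_inv_cancel]⟩⟩
  have hK : K = M := by
    refine (hmin K hKn (fun x hx => hx.1)).resolve_left fun h => ?_
    obtain ⟨x, hx⟩ := exists_prime_orderOf_dvd_card' (G := M) p hpd
    have hxp : ((x : M) : G) ^ p = 1 := by
      have := congrArg Subtype.val (hx ▸ pow_orderOf_eq_one x : x ^ p = 1)
      simpa using this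
    have h1 : ((x : M) : G) ∈ K := ⟨x.2, hxp⟩
    rw [h, mem_bot] at h1
    rw [show x = 1 from Subtype.ext h1, orderOf_one] at hx
    exact hp.ne_one hx.symm
  have hP : IsPGroup p M := fun x => ⟨1, Subtype.ext (by
    have : (x : G) ∈ K := hK.symm ▸ x.2
    simpa using this.2)⟩
  obtain ⟨d, hd⟩ := IsPGroup.iff_card.1 hP
  refine ⟨p, d, hp, Nat.pos_of_ne_zero fun h0 => ?_, hd⟩
  rw [h0, pow_zero] at hd
  exact hM (Subgroup.card_eq_one.1 hd)

variable {Ω : Type*} [MulAction G Ω] [FaithfulSMul G Ω]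

theorem transitive_of_minNormal (hprim : MulAction.IsPreprimitive G Ω) (M : Subgroup G) [M.Normal] (hM : M ≠ ⊥) :
    MulAction.IsPretransitive M Ω := by
  haveI := hprim
  refine MulAction.IsQuasiPreprimitive.isPretransitive_of_normal (G := G) fun h => hM ?_
  rw [eq_bot_iff]
  intro m hm
  refine mem_bot.2 (eq_of_smul_eq_smul (α := Ω) fun ω => ?_)
  rw [one_smul]
  exact (MulAction.mem_fixedPoints (M := M)).1 (h.ge trivial : ω ∈ MulAction.fixedPoints M Ω) ⟨m, hm⟩

theorem fixes_all_of_centralizes (M : Subgroup G) [MulAction.IsPretransitive M Ω] {g : G}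
    (hc : ∀ m ∈ M, m * g = g * m) {ω : Ω} (hg : g • ω = ω) : g = 1 :=
  eq_of_smul_eq_smul (α := Ω) fun x => by
    obtain ⟨⟨m, hm⟩, hmx⟩ := MulAction.exists_smul_eq M ω x
    have hmx' : m • ω = x := hmx
    rw [one_smul, ← hmx', smul_smul, ← hc m hm, mul_smul, hg]

end CfsgLib.PLocal
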