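import Mathlib
import Cfsg.Agent.Lib.Core

/-! Elementary abelian subgroups of maximal order. -/
set_option autoImplicit false
open Cfsg

namespace CfsgLib.PLocal
open Subgroup

variable {G : Type*} [Group G] {p : ℕ}

theorem el_mono {A B : Subgroup G} (h : IsElementaryAbelian p A) (hB : B ≤ A) : IsElementaryAbelian p B := by
  obtain ⟨hc, ha⟩ := h
  exact ⟨⟨⟨fun x y => Subtype.ext (by
      have h := congrArg Subtype.val (mul_comm' (⟨x.1, hB x.2⟩ : A) ⟨y.1, hB y.2⟩)
      exact h)⟩⟩,
    fun a ha' => ha a (hB ha')⟩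

theorem el_bot : IsElementaryAbelian p (⊥ : Subgroup G) :=
  ⟨⟨⟨fun a b => Subsingleton.elim _ _⟩⟩, fun a ha => by rw [mem_bot] at ha; rw [ha, one_pow]⟩

theorem el_map {H : Type*} [Group H] (f : G →* H) {A : Subgroup G} (h : IsElementaryAbelian p A) :
    IsElementaryAbelian p (A.map f) := by
  obtain ⟨hc, ha⟩ := h
  refine ⟨Subgroup.map_isMulCommutative A f, ?_⟩
  rintro _ ⟨a, hA, rfl⟩
  rw [← map_pow, ha a hA, map_one]

theorem el_comap {H : Type*} [Group H] (f : G →* H) (hf : Function.Injective f) {A : Subgroup H}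
    (h : IsElementaryAbelian p A) : IsElementaryAbelian p (A.comap f) := by
  obtain ⟨hc, ha⟩ := h
  refine ⟨⟨⟨fun x y => Subtype.ext (hf ?_)⟩⟩, fun a hA => hf (by rw [map_pow, ha _ hA, map_one])⟩
  show f (x.1 * y.1) = f (y.1 * x.1)
  rw [map_mul, map_mul]
  exact congrArg Subtype.val (mul_comm' (⟨f x, x.2⟩ : A) ⟨f y, y.2⟩)

theorem el_sup {A B : Subgroup G} (hA : IsElementaryAbelian p A) (hB : IsElementaryAbelian p B)
    (hc : ∀ a ∈ A, ∀ b ∈ B, a * b = b * a) : IsElementaryAbelian p (A ⊔ B) := by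
  obtain ⟨ca, ha⟩ := hA
  obtain ⟨cb, hb⟩ := hB
  have hcom : ∀ x ∈ (A : Set G) ∪ B, ∀ y ∈ (A : Set G) ∪ B, x * y = y * x := by
    rintro x (hx | hx) y (hy | hy)
    · exact congrArg Subtype.val (mul_comm' (⟨x, hx⟩ : A) ⟨y, hy⟩)
    · exact hc x hx y hy
    · exact (hc y hy x hx).symm
    · exact congrArg Subtype.val (mul_comm' (⟨x, hx⟩ : B) ⟨y, hy⟩)
  haveI := Subgroup.isMulCommutative_closure hcom
  rw [show A ⊔ B = closure ((A : Set G) ∪ B) by rw [Subgroup.closure_union, Subgroup.closure_eq, Subgroup.closure_eq]]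
  refine ⟨inferInstance, fun x hx => ?_⟩
  induction hx using closure_induction with
  | mem x hx => exact hx.elim (ha x) (hb x)
  | one => exact one_pow p
  | mul x y hx hy h1 h2 =>
    rw [Commute.mul_pow (congrArg Subtype.val (mul_comm' (⟨x, hx⟩ : closure ((A : Set G) ∪ B)) ⟨y, hy⟩)), h1, h2, one_mul]
  | inv x _ h1 => rw [inv_pow, h1, inv_one]

theorem el_zpowers {x : G} (hx : x ^ p = 1) : IsElementaryAbelian p (zpowers x) := by
  refine ⟨inferInstance, ?_⟩
  rintro _ ⟨k, rfl⟩
  show (x ^ k) ^ p = 1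
  rw [← zpow_natCast, ← zpow_mul, mul_comm, zpow_mul, zpow_natCast, hx, one_zpow]

theorem el_isPGroup {A : Subgroup G} (h : IsElementaryAbelian p A) : IsPGroup p A :=
  fun a => ⟨1, Subtype.ext (by rw [pow_one]; exact h.2 a a.2)⟩

variable [Finite G]

theorem exists_max : ∃ A, A ∈ maxElementaryAbelianSubgroups p G := by
  classical
  obtain ⟨A, hA, hmax⟩ := Set.exists_max_image {A : Subgroup G | IsElementaryAbelian p A} (fun A => Nat.card A)
    (Set.toFinite _) ⟨⊥, el_bot⟩
  exact ⟨A, hA, fun B hB => hmax B hB⟩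

theorem eq_of_max {A B : Subgroup G} (hA : A ∈ maxElementaryAbelianSubgroups p G)
    (hB : IsElementaryAbelian p B) (h : A ≤ B) : B = A :=
  (Subgroup.eq_of_le_of_card_ge h (hA.2 B hB)).symm

theorem mem_of_max_of_commute {A : Subgroup G} (hA : A ∈ maxElementaryAbelianSubgroups p G) {x : G}
    (hx : x ^ p = 1) (hc : ∀ a ∈ A, a * x = x * a) : x ∈ A := by
  have h := eq_of_max hA (el_sup hA.1 (el_zpowers hx) (fun a ha b hb => by
    obtain ⟨k, rfl⟩ := hb
    exact (Commute.zpow_right (hc a ha) k).eq)) le_sup_left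
  exact h.le (mem_sup_right (mem_zpowers x))

theorem max_map {H : Type*} [Group H] (e : G ≃* H) {A : Subgroup G} (hA : A ∈ maxElementaryAbelianSubgroups p G) :
    A.map e.toMonoidHom ∈ maxElementaryAbelianSubgroups p H := by
  refine ⟨el_map _ hA.1, fun B hB => ?_⟩
  rw [Subgroup.card_map_of_injective e.injective]
  calc Nat.card B = Nat.card (B.map e.symm.toMonoidHom) := (Subgroup.card_map_of_injective e.symm.injective).symm
    _ ≤ Nat.card A := hA.2 _ (el_map _ hB)

theorem thompson_map {H : Type*} [Group H] [Finite H] (e : G ≃* H) :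
    (thompsonSubgroup p G).map e.toMonoidHom = thompsonSubgroup p H := by
  unfold thompsonSubgroup
  refine le_antisymm ?_ (sSup_le fun B hB => ?_)
  · rw [Subgroup.map_le_iff_le_comap]
    refine sSup_le fun A hA => ?_
    rw [← Subgroup.map_le_iff_le_comap]
    exact le_sSup (max_map e hA)
  · have h2 := max_map e.symm hB
    have h3 : B = (B.map e.symm.toMonoidHom).map e.toMonoidHom := by
      rw [Subgroup.map_map]
      ext x
      simp
    rw [h3]
    exact Subgroup.map_mono (le_sSup h2)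

theorem thompson_characteristic : (thompsonSubgroup p G).Characteristic :=
  Subgroup.characteristic_iff_map_eq.2 fun e => thompson_map e

theorem card_le_of_subgroup (U : Subgroup G) {A : Subgroup U} (hA : A ∈ maxElementaryAbelianSubgroups p U)
    {B : Subgroup G} (hB : IsElementaryAbelian p B) (hBU : B ≤ U) : Nat.card B ≤ Nat.card (A.map U.subtype) := by
  rw [Subgroup.card_map_of_injective U.subtype_injective, ← Nat.card_congr (Subgroup.subgroupOfEquivOfLe hBU).toEquiv]
  exact hA.2 _ (el_comap U.subtype U.subtype_injective hB)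

theorem exists_max_le_sylow [hp : Fact p.Prime] (S : Sylow p G) :
    ∃ A ∈ maxElementaryAbelianSubgroups p G, A ≤ (S : Subgroup G) := by
  obtain ⟨A, hA⟩ := exists_max (G := G) (p := p)
  obtain ⟨T, hT⟩ := (el_isPGroup hA.1).exists_le_sylow
  obtain ⟨g, hg⟩ := MulAction.exists_smul_eq G T S
  refine ⟨A.map (MulAut.conj g).toMonoidHom, max_map _ hA, ?_⟩
  rw [← hg]
  rintro _ ⟨a, ha, rfl⟩
  rw [Sylow.coe_subgroup_smul]
  exact Subgroup.smul_mem_pointwise_smul a (MulAut.conj g) _ (hT ha)

theorem image_max_iff (U : Subgroup G) (hU : ∃ A ∈ maxElementaryAbelianSubgroups p G, A ≤ U) (B : Subgroup U) :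
    B ∈ maxElementaryAbelianSubgroups p U ↔ B.map U.subtype ∈ maxElementaryAbelianSubgroups p G := by
  obtain ⟨A, hA, hAU⟩ := hU
  constructor
  · intro hB
    exact ⟨el_map _ hB.1, fun C hC => (hA.2 C hC).trans (card_le_of_subgroup U hB hA.1 hAU)⟩
  · intro hB
    refine ⟨?_, fun C hC => ?_⟩
    · have := el_comap U.subtype U.subtype_injective hB.1
      rwa [Subgroup.comap_map_eq_self_of_injective U.subtype_injective] at this
    · have := hB.2 _ (el_map U.subtype hC)
      rwa [Subgroup.card_map_of_injective U.subtype_injective, Subgroup.card_map_of_injective U.subtype_injective] at this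

theorem thompsonOf_eq_sSup (U : Subgroup G) (hU : ∃ A ∈ maxElementaryAbelianSubgroups p G, A ≤ U) :
    thompsonSubgroupOf p U = sSup {A | A ∈ maxElementaryAbelianSubgroups p G ∧ A ≤ U} := by
  unfold thompsonSubgroupOf thompsonSubgroup
  refine le_antisymm ?_ (sSup_le ?_)
  · rw [Subgroup.map_le_iff_le_comap]
    refine sSup_le fun B hB => ?_
    rw [← Subgroup.map_le_iff_le_comap]
    exact le_sSup ⟨(image_max_iff U hU B).1 hB, Subgroup.map_subtype_le B⟩
  · rintro A ⟨hA, hAU⟩
    have e : (A.subgroupOf U).map U.subtype = A := by rw [Subgroup.subgroupOf_map_subtype, inf_eq_left.2 hAU]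
    rw [← e]
    exact Subgroup.map_mono (le_sSup ((image_max_iff U hU _).2 (by rwa [e])))

end CfsgLib.PLocal
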