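import Mathlib
import Cfsg.Prelude.Def_Transfer
import Cfsg.Agent.Lib.PLocal.Elementary
import Cfsg.Agent.Lib.UniqueOrderP
import Cfsg.Agent.Lib.PStep

/-! Normal elementary abelian subgroups of order `p^2` for odd `p`. -/

set_option autoImplicit false
open scoped commutatorElement
open Cfsg

namespace CfsgLib.PLocal

universe u

theorem mul_pow_central {G : Type*} [Group G] {x y : G} (hx : Commute ⁅y, x⁆ x) (hy : Commute ⁅y, x⁆ y) (n : ℕ) :
    (x * y) ^ n = ⁅y, x⁆ ^ (n.choose 2) * x ^ n * y ^ n := by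
  obtain ⟨c, hc⟩ : ∃ c, c = ⁅y, x⁆ := ⟨_, rfl⟩
  rw [← hc] at hx hy ⊢
  have h0 : y * x = c * x * y := by rw [hc, commutatorElement_def]; group
  have h1 : ∀ m : ℕ, y ^ m * x = c ^ m * x * y ^ m := by
    intro m
    induction m with
    | zero => simp
    | succ m ih =>
      calc y ^ (m + 1) * x = y * (y ^ m * x) := by rw [pow_succ', mul_assoc]
        _ = (y * c ^ m) * x * y ^ m := by rw [ih]; group
        _ = c ^ m * (y * x) * y ^ m := by rw [(hy.symm.pow_right m).eq]; group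
        _ = c ^ (m + 1) * x * y ^ (m + 1) := by rw [h0, pow_succ c, pow_succ' y]; group
  induction n with
  | zero => simp
  | succ n ih =>
    have hxc : x ^ n * c ^ n = c ^ n * x ^ n := ((hx.pow_pow n n).symm).eq
    calc (x * y) ^ (n + 1) = c ^ n.choose 2 * x ^ n * (y ^ n * x) * y := by rw [pow_succ, ih]; group
      _ = c ^ n.choose 2 * (x ^ n * c ^ n) * x * (y ^ n * y) := by rw [h1]; group
      _ = c ^ n.choose 2 * c ^ n * (x ^ n * x) * (y ^ n * y) := by rw [hxc]; group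
      _ = _ := by
        rw [← pow_add, ← pow_succ, ← pow_succ, Nat.choose_succ_succ n 1, Nat.choose_one_right, show Nat.succ 1 = 2 from rfl, add_comm (n.choose 2)]

/-- For odd `p` the `p`-th power map is multiplicative when commutators are central of order dividing `p`. -/
theorem mul_pow_prime {G : Type*} [Group G] {p : ℕ} (hp : p.Prime) (hp2 : p ≠ 2) {x y : G}
    (hx : Commute ⁅y, x⁆ x) (hy : Commute ⁅y, x⁆ y) (hc : ⁅y, x⁆ ^ p = 1) : (x * y) ^ p = x ^ p * y ^ p := by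
  obtain ⟨k, hk⟩ := hp.dvd_choose_self (k := 2) (by norm_num) (lt_of_le_of_ne hp.two_le (Ne.symm hp2))
  rw [mul_pow_central hx hy, hk, pow_mul, hc, one_pow, one_mul]

/-- In a finite `p`-group a normal subgroup above a central `⟨z⟩` contains a normal subgroup of order `p^2` above it. -/
theorem exists_normal_prime_sq {R : Type u} [Group R] [Finite R] {p : ℕ} [Fact p.Prime] (hR : IsPGroup p R)
    {E : Subgroup R} [E.Normal] (hEp : ∀ x ∈ E, x ^ p = 1) (hE : p < Nat.card E) {z : R} (hz : z ∈ E)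
    (hzo : orderOf z = p) (hzc : z ∈ Subgroup.center R) :
    ∃ A : Subgroup R, A ≤ E ∧ A.Normal ∧ IsElementaryAbelian p A ∧ Nat.card A = p ^ 2 := by
  have hp := (Fact.out : p.Prime)
  set Z := Subgroup.zpowers z with hZ
  have hZc : Z ≤ Subgroup.center R := Subgroup.zpowers_le.mpr hzc
  have hZn : Z.Normal := ⟨fun x hx g => by
    rw [Subgroup.mem_center_iff.mp (hZc hx) g, mul_inv_cancel_right]; exact hx⟩
  have hcZ : Nat.card Z = p := by rw [Nat.card_zpowers, hzo]
  have hsurj := QuotientGroup.mk'_surjective Z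
  set Eb := E.map (QuotientGroup.mk' Z) with hEb
  have hEbn : Eb.Normal := Subgroup.Normal.map inferInstance _ hsurj
  have : Nontrivial Eb := by
    rw [Subgroup.nontrivial_iff_ne_bot]
    intro h
    rw [hEb, Subgroup.map_eq_bot_iff, QuotientGroup.ker_mk'] at h
    exact absurd (Subgroup.card_le_of_le h) (by omega)
  have hQ := hR.to_quotient Z
  have hne : Eb ⊓ Subgroup.center (R ⧸ Z) ≠ ⊥ := by
    have hQn : Group.IsNilpotent (R ⧸ Z) := hQ.isNilpotent
    exact PStep.normal_inf_center_ne_bot hQ hEbn ((Subgroup.nontrivial_iff_ne_bot _).mp inferInstance)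
  obtain ⟨⟨wb, hwb⟩, hwo⟩ : ∃ w : ↥(Eb ⊓ Subgroup.center (R ⧸ Z) : Subgroup (R ⧸ Z)), orderOf w = p := by
    refine exists_prime_orderOf_dvd_card' p ?_
    have : Nontrivial ↥(Eb ⊓ Subgroup.center (R ⧸ Z) : Subgroup (R ⧸ Z)) := (Subgroup.nontrivial_iff_ne_bot _).mpr hne
    obtain ⟨k, hk, hck⟩ := (IsPGroup.nontrivial_iff_card (hQ.to_subgroup _)).mp this
    rw [hck]; exact dvd_pow_self p hk.ne'
  obtain ⟨⟨w, hw, hwe⟩, hwc⟩ := hwb
  subst hwe
  replace hwo : orderOf (QuotientGroup.mk' Z w) = p := by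
    rw [← hwo]
    exact Subgroup.orderOf_coe (⟨_, _⟩ : ↥(Eb ⊓ Subgroup.center (R ⧸ Z) : Subgroup (R ⧸ Z)))
  have hwZ : w ∉ Z := fun h => by
    rw [show QuotientGroup.mk' Z w = 1 from (QuotientGroup.eq_one_iff w).mpr h, orderOf_one] at hwo
    exact hp.ne_one hwo.symm
  set A := Z ⊔ Subgroup.zpowers w with hA
  have hAE : A ≤ E := sup_le (Subgroup.zpowers_le.mpr hz) (Subgroup.zpowers_le.mpr hw)
  have hAn : A.Normal := by
    have e : A = (Subgroup.zpowers (QuotientGroup.mk' Z w)).comap (QuotientGroup.mk' Z) := by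
      rw [← MonoidHom.map_zpowers, Subgroup.comap_map_eq, QuotientGroup.ker_mk', sup_comm]
    rw [e]
    have : (Subgroup.zpowers (QuotientGroup.mk' Z w)).Normal := ⟨fun x hx g => by
      obtain ⟨k, rfl⟩ := hx
      refine ⟨k, ?_⟩
      have := Subgroup.mem_center_iff.mp (Subgroup.zpow_mem _ hwc k) g
      rw [this, mul_inv_cancel_right]⟩
    exact this.comap _
  refine ⟨A, hAE, hAn, el_sup (el_zpowers (hEp z hz)) (el_zpowers (hEp w hw)) (fun a ha b _ =>
    (Subgroup.mem_center_iff.mp (hZc ha) b).symm), ?_⟩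
  have hcw : Nat.card (Subgroup.zpowers (QuotientGroup.mk' Z w)) = p := by rw [Nat.card_zpowers, hwo]
  have h1 := Subgroup.relIndex_ker (K := A) (QuotientGroup.mk' Z)
  rw [QuotientGroup.ker_mk', hA, Subgroup.map_sup, (Subgroup.map_eq_bot_iff Z).mpr (QuotientGroup.ker_mk' Z).ge,
    bot_sup_eq, MonoidHom.map_zpowers, hcw, ← hA] at h1
  have h2 := Subgroup.relIndex_mul_relIndex ⊥ Z A bot_le le_sup_left
  rw [Subgroup.relIndex_bot_left, Subgroup.relIndex_bot_left, hcZ, h1] at h2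
  rw [← h2, pow_two]

theorem exists_el_aux {p : ℕ} [Fact p.Prime] (hp2 : p ≠ 2) (n : ℕ) : ∀ (R : Type u) [Group R] [Finite R],
    Nat.card R = n → IsPGroup p R → ∀ S : Subgroup R, S.Normal → ¬ IsCyclic S →
    ∃ A : Subgroup R, A ≤ S ∧ A.Normal ∧ IsElementaryAbelian p A ∧ Nat.card A = p ^ 2 := by
  induction n using Nat.strong_induction_on with
  | _ n ih =>
  intro R _ _ hn hR S hS hSc
  have := hS
  have hp := (Fact.out : p.Prime)
  have hS0 : S ≠ ⊥ := fun h => hSc (by subst h; infer_instance)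
  have hnil : Group.IsNilpotent R := hR.isNilpotent
  obtain ⟨⟨z, hz⟩, hzo⟩ : ∃ w : ↥(S ⊓ Subgroup.center R : Subgroup R), orderOf w = p := by
    refine exists_prime_orderOf_dvd_card' p ?_
    have : Nontrivial ↥(S ⊓ Subgroup.center R : Subgroup R) :=
      (Subgroup.nontrivial_iff_ne_bot _).mpr (PStep.normal_inf_center_ne_bot hR hS hS0)
    obtain ⟨k, hk, hck⟩ := (IsPGroup.nontrivial_iff_card (hR.to_subgroup _)).mp this
    rw [hck]; exact dvd_pow_self p hk.ne'
  rw [Subgroup.orderOf_mk] at hzo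
  set Z := Subgroup.zpowers z with hZ
  have hZc : Z ≤ Subgroup.center R := Subgroup.zpowers_le.mpr hz.2
  have hZS : Z ≤ S := Subgroup.zpowers_le.mpr hz.1
  have hZn : Z.Normal := ⟨fun x hx g => by
    rw [Subgroup.mem_center_iff.mp (hZc hx) g, mul_inv_cancel_right]; exact hx⟩
  have hcZ : Nat.card Z = p := by rw [Nat.card_zpowers, hzo]
  have hzp : ∀ c ∈ Z, c ^ p = 1 := fun c hc => by
    obtain ⟨i, rfl⟩ := hc
    show (z ^ i) ^ p = 1
    rw [← zpow_natCast, ← zpow_mul, mul_comm, zpow_mul, zpow_natCast, ← hzo, pow_orderOf_eq_one, one_zpow]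
  have hsurj := QuotientGroup.mk'_surjective Z
  set Sb := S.map (QuotientGroup.mk' Z) with hSb
  have hlt : Nat.card (R ⧸ Z) < n := by
    rw [← hn, Z.card_eq_card_quotient_mul_card_subgroup, hcZ]
    exact lt_mul_of_one_lt_right Nat.card_pos hp.one_lt
  -- a normal subgroup `K` inside `S`, abelian or of order `p^3`, with central commutators
  obtain ⟨K, hKS, hzK, hKn, hKc, hKbig⟩ : ∃ K : Subgroup R, K ≤ S ∧ z ∈ K ∧ K.Normal ∧ (∀ a ∈ K, ∀ b ∈ K, ⁅a, b⁆ ∈ Z) ∧
      ((∀ a ∈ K, ∀ b ∈ K, a * b = b * a) ∧ ¬ IsCyclic K ∨ ((∀ a ∈ K, a ^ p ∈ Z) ∧ Nat.card K = p ^ 3)) := by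
    by_cases hcy : IsCyclic Sb
    · refine ⟨S, le_rfl, hz.1, hS, fun a ha b hb => ?_, Or.inl ⟨fun a ha b hb => ?_, hSc⟩⟩
      · rw [← QuotientGroup.eq_one_iff, ← QuotientGroup.mk'_apply, map_commutatorElement, commutatorElement_eq_one_iff_mul_comm]
        obtain ⟨g, hg⟩ := IsCyclic.exists_generator (α := Sb)
        obtain ⟨i, hi⟩ := hg ⟨_, Subgroup.mem_map_of_mem _ ha⟩
        obtain ⟨j, hj⟩ := hg ⟨_, Subgroup.mem_map_of_mem _ hb⟩
        have hi' : (g : R ⧸ Z) ^ i = QuotientGroup.mk' Z a := congrArg Subtype.val hi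
        have hj' : (g : R ⧸ Z) ^ j = QuotientGroup.mk' Z b := congrArg Subtype.val hj
        rw [← hi', ← hj']
        exact (Commute.refl (g : R ⧸ Z)).zpow_zpow i j
      · obtain ⟨⟨g, g₀, hg₀, hg₀e⟩, hg⟩ := IsCyclic.exists_generator (α := Sb)
        subst hg₀e
        have hdec : ∀ x ∈ S, ∃ i : ℤ, ∃ c ∈ Z, x = g₀ ^ i * c := fun x hx => by
          obtain ⟨i, hi⟩ := hg ⟨_, Subgroup.mem_map_of_mem _ hx⟩
          exact ⟨i, (g₀ ^ i)⁻¹ * x, QuotientGroup.eq.mp (congrArg Subtype.val hi), by group⟩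
        obtain ⟨i, c, hc, rfl⟩ := hdec a ha
        obtain ⟨j, d, hd, rfl⟩ := hdec b hb
        have hc' : ∀ w : R, Commute c w := fun w => (Subgroup.mem_center_iff.mp (hZc hc) w).symm
        have hd' : ∀ w : R, Commute d w := fun w => (Subgroup.mem_center_iff.mp (hZc hd) w).symm
        exact ((((Commute.refl g₀).zpow_zpow i j).mul_right (hd' _).symm).mul_left (hc' _)).eq
    · obtain ⟨Kb, hKbS, hKbn, hKbel, hKbc⟩ := ih _ hlt (R ⧸ Z) rfl (hR.to_quotient Z) Sb
        (Subgroup.Normal.map inferInstance _ hsurj) hcy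
      have hle : Kb.comap (QuotientGroup.mk' Z) ≤ S := by
        refine (Subgroup.comap_mono hKbS).trans ?_
        rw [hSb, Subgroup.comap_map_eq, QuotientGroup.ker_mk']
        exact sup_le le_rfl hZS
      refine ⟨Kb.comap (QuotientGroup.mk' Z), hle, (QuotientGroup.ker_mk' Z).ge.trans (MonoidHom.ker_le_comap _ _) (Subgroup.mem_zpowers z), hKbn.comap _, fun a ha b hb => ?_, Or.inr ⟨fun a ha => ?_, ?_⟩⟩
      · rw [← QuotientGroup.eq_one_iff, ← QuotientGroup.mk'_apply, map_commutatorElement, commutatorElement_eq_one_iff_mul_comm]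
        exact congrArg Subtype.val (hKbel.1.is_comm.comm (⟨_, ha⟩ : Kb) ⟨_, hb⟩)
      · rw [← QuotientGroup.eq_one_iff, ← QuotientGroup.mk'_apply, map_pow]
        exact hKbel.2 _ ha
      · have h1 := Subgroup.relIndex_ker (K := Kb.comap (QuotientGroup.mk' Z)) (QuotientGroup.mk' Z)
        rw [Subgroup.map_comap_eq_self_of_surjective hsurj, hKbc, QuotientGroup.ker_mk'] at h1
        have hZK : Z ≤ Kb.comap (QuotientGroup.mk' Z) := (QuotientGroup.ker_mk' Z).ge.trans (MonoidHom.ker_le_comap _ _)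
        have h2 := Subgroup.relIndex_mul_relIndex ⊥ Z _ bot_le hZK
        rw [Subgroup.relIndex_bot_left, Subgroup.relIndex_bot_left, hcZ, h1] at h2
        rw [← h2]; ring
  have hpow : ∀ a ∈ K, ∀ b ∈ K, (a * b) ^ p = a ^ p * b ^ p := fun a ha b hb =>
    mul_pow_prime hp hp2 (Subgroup.mem_center_iff.mp (hZc (hKc b hb a ha)) a).symm
      (Subgroup.mem_center_iff.mp (hZc (hKc b hb a ha)) b).symm (hzp _ (hKc b hb a ha))
  let E : Subgroup R :=
    { carrier := {x | x ∈ K ∧ x ^ p = 1}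
      one_mem' := ⟨K.one_mem, one_pow p⟩
      mul_mem' := fun {a b} ha hb => ⟨K.mul_mem ha.1 hb.1, by rw [hpow a ha.1 b hb.1, ha.2, hb.2, one_mul]⟩
      inv_mem' := fun {a} ha => ⟨K.inv_mem ha.1, by rw [inv_pow, ha.2, inv_one]⟩ }
  have hEn : E.Normal := ⟨fun x hx g => ⟨hKn.conj_mem x hx.1 g, by rw [conj_pow, hx.2, mul_one, mul_inv_cancel]⟩⟩
  have hpw : ∀ a : K, ((a : R) ^ p = 1 ↔ (a : R) ∈ E) := fun a => ⟨fun h => ⟨a.2, h⟩, fun h => h.2⟩
  suffices hbig : p < Nat.card E by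
    obtain ⟨A, hAE, hA⟩ := exists_normal_prime_sq hR (E := E) (fun x hx => hx.2) hbig
      ⟨hzK, hzp z (Subgroup.mem_zpowers z)⟩ hzo hz.2
    exact ⟨A, hAE.trans fun x hx => hKS hx.1, hA⟩
  rcases hKbig with ⟨hab, hnc⟩ | ⟨hKp, hcK⟩
  · by_contra hle
    push Not at hle
    refine hnc ?_
    have huniq : UniqueOrderP.Uniq p K := by
      intro a b ha hb
      have hmem : ∀ c : K, orderOf c = p → (c : R) ∈ E := fun c hc =>
        ⟨c.2, by rw [← Subgroup.coe_pow, show c ^ p = 1 from hc ▸ pow_orderOf_eq_one c, Subgroup.coe_one]⟩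
      have hEa : Subgroup.zpowers (a : R) = E := Subgroup.eq_of_le_of_card_ge (Subgroup.zpowers_le.mpr (hmem a ha))
        (by rw [Nat.card_zpowers, Subgroup.orderOf_coe, ha]; exact hle)
      obtain ⟨i, hi⟩ := Subgroup.mem_zpowers_iff.mp (hEa.ge (hmem b hb))
      exact ⟨i, Subtype.ext (by simpa using hi)⟩
    rcases UniqueOrderP.cyclic_or_quaternion (G := K) (hR.to_subgroup K) huniq with h | h
    · exact h
    · exact absurd h.1 hp2
  · let f : K →* Z := MonoidHom.mk' (fun a => ⟨(a : R) ^ p, hKp a a.2⟩) (fun a b => Subtype.ext (hpow a a.2 b b.2))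
    have hker : f.ker = E.subgroupOf K := by
      ext a
      rw [MonoidHom.mem_ker, Subgroup.mem_subgroupOf, ← hpw a]
      exact ⟨fun h => congrArg Subtype.val h, fun h => Subtype.ext h⟩
    have h1 := f.ker.card_mul_index
    rw [Subgroup.index_ker, hcK, hker, Nat.card_congr (Subgroup.subgroupOfEquivOfLe (fun x hx => hx.1 : E ≤ K)).toEquiv] at h1
    have h2 : Nat.card f.range ≤ p := hcZ ▸ Subgroup.card_le_card_group _
    by_contra hle
    push Not at hle
    have h3 := Nat.mul_le_mul hle h2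
    rw [h1] at h3
    have h4 : p * p < p ^ 3 := by
      rw [← pow_two]; exact Nat.pow_lt_pow_right hp.one_lt (by norm_num)
    omega

/-- For odd `p`, a noncyclic normal subgroup of a `p`-group contains a normal elementary abelian subgroup of order `p^2`. -/
theorem exists_normal_el {R : Type u} [Group R] [Finite R] {p : ℕ} [Fact p.Prime] (hp2 : p ≠ 2) (hR : IsPGroup p R)
    (S : Subgroup R) [hS : S.Normal] (hSc : ¬ IsCyclic S) :
    ∃ A : Subgroup R, A ≤ S ∧ A.Normal ∧ IsElementaryAbelian p A ∧ Nat.card A = p ^ 2 :=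
  exists_el_aux hp2 _ R rfl hR S hS hSc

end CfsgLib.PLocal
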