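import Mathlib
import Cfsg.Prelude.Def_PLocal
import Cfsg.Agent.Lib.PLocal.Elementary

/-! `Ω₁(Z(·))` and `J(·)` under injective homomorphisms. -/

set_option autoImplicit false
open Cfsg

namespace CfsgLib.PLocal

variable {G H : Type*} [Group G] [Group H] {p : ℕ}

theorem omegaOne_map (f : H →* G) (hf : Function.Injective f) (U : Subgroup H) :
    (omegaOne p U).map f = omegaOne p (U.map f) := by
  rw [omegaOne, omegaOne, MonoidHom.map_closure]
  congr 1
  ext y
  constructor
  · rintro ⟨x, ⟨hx, hxp⟩, rfl⟩
    exact ⟨Subgroup.mem_map_of_mem f hx, by rw [← map_pow, hxp, map_one]⟩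
  · rintro ⟨⟨x, hx, rfl⟩, hp⟩
    exact ⟨x, ⟨hx, hf (by rw [map_pow, hp, map_one])⟩, rfl⟩

theorem inf_centralizer_map (f : H →* G) (hf : Function.Injective f) (U : Subgroup H) :
    (U ⊓ Subgroup.centralizer (U : Set H)).map f = U.map f ⊓ Subgroup.centralizer ((U.map f : Subgroup G) : Set G) := by
  ext y
  constructor
  · rintro ⟨x, ⟨hx, hxc⟩, rfl⟩
    refine ⟨Subgroup.mem_map_of_mem f hx, ?_⟩
    rintro _ ⟨z, hz, rfl⟩
    rw [← map_mul, ← map_mul, hxc z hz]
  · rintro ⟨⟨x, hx, rfl⟩, hc⟩
    exact ⟨x, ⟨hx, fun z hz => hf (by simpa using hc (f z) ⟨z, hz, rfl⟩)⟩, rfl⟩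

theorem omegaCenter_map (f : H →* G) (hf : Function.Injective f) (U : Subgroup H) :
    (omegaOne p (U ⊓ Subgroup.centralizer (U : Set H))).map f =
      omegaOne p (U.map f ⊓ Subgroup.centralizer ((U.map f : Subgroup G) : Set G)) := by
  rw [omegaOne_map f hf, inf_centralizer_map f hf]

theorem omegaCenter_range (f : H →* G) (hf : Function.Injective f) :
    (omegaOne p ((⊤ : Subgroup H) ⊓ Subgroup.centralizer ((⊤ : Subgroup H) : Set H))).map f =
      omegaOne p (f.range ⊓ Subgroup.centralizer (f.range : Set G)) := by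
  rw [omegaCenter_map f hf, ← MonoidHom.range_eq_map]

theorem thompsonOf_range [Finite H] (f : H →* G) (hf : Function.Injective f) :
    thompsonSubgroupOf p f.range = (thompsonSubgroup p H).map f := by
  have : Finite f.range := Finite.of_surjective f.rangeRestrict f.rangeRestrict_surjective
  unfold thompsonSubgroupOf
  rw [← thompson_map (MonoidHom.ofInjective hf), Subgroup.map_map]
  rfl

theorem thompsonOf_map [Finite H] (f : H →* G) (U : Subgroup H) (hf : Function.Injective (f.comp U.subtype)) :
    thompsonSubgroupOf p (U.map f) = (thompsonSubgroupOf p U).map f := by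
  have e : (f.comp U.subtype).range = U.map f := by rw [MonoidHom.range_comp, Subgroup.range_subtype]
  rw [← e, thompsonOf_range _ hf, thompsonSubgroupOf, Subgroup.map_map]

theorem omegaCenter_map_of_injOn (f : H →* G) (U : Subgroup H) (hf : Function.Injective (f.comp U.subtype)) :
    (omegaOne p (U ⊓ Subgroup.centralizer (U : Set H))).map f =
      omegaOne p (U.map f ⊓ Subgroup.centralizer ((U.map f : Subgroup G) : Set G)) := by
  have h1 := omegaCenter_range (p := p) U.subtype U.subtype_injective
  have h2 := omegaCenter_range (p := p) (f.comp U.subtype) hf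
  rw [Subgroup.range_subtype] at h1
  rw [← Subgroup.map_map, h1, MonoidHom.range_comp, Subgroup.range_subtype] at h2
  exact h2

end CfsgLib.PLocal
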