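import Cfsg.Agent.Lib.Glauberman.Replacement

/-! The replacement property of the families of large abelian subgroups of a normal subgroup. -/

set_option autoImplicit false

namespace CfsgLib.PLocal

open CfsgLib.ThompsonNPC CfsgLib.Glauberman
open scoped commutatorElement

theorem exists_normalized {S : Type*} [Group S] [Finite S] {p : ℕ} [Fact p.Prime] (hS : IsPGroup p S) (hp : p ≠ 2)
    {e : ℕ} (he : e = 0 ∨ e = p) (D B : Subgroup S) [D.Normal] [B.Normal] (hB : ⁅⁅B, B⁆, B⁆ = ⊥)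
    (h : ∃ U ∈ maxAb e D, ⁅B, B⁆ ≤ U ∧ ¬ B ≤ U) :
    ∃ A ∈ maxAb e D, ⁅B, B⁆ ≤ A ∧ ¬ B ≤ A ∧ B ≤ Subgroup.normalizer (A : Set S) := by
  classical
  let T := {A : Subgroup S // A ∈ maxAb e D ∧ ⁅B, B⁆ ≤ A ∧ ¬ B ≤ A}
  obtain ⟨U, hU⟩ := h
  have : Nonempty T := ⟨⟨U, hU.1, hU.2⟩⟩
  obtain ⟨⟨A, ⟨hAD, hA, hmax⟩, hBA, hnB⟩, hbest⟩ := Finite.exists_max fun A : T => Nat.card ↥(A.1 ⊓ B)
  refine ⟨A, ⟨hAD, hA, hmax⟩, hBA, hnB, ?_⟩
  by_contra hne
  have hB2 : ∀ x ∈ B, ∀ y ∈ B, ∀ z ∈ B, ⁅x, y⁆ * z = z * ⁅x, y⁆ := fun x hx y hy z hz => by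
    have h1 := Subgroup.commutator_mem_commutator (Subgroup.commutator_mem_commutator hx hy) hz
    rw [hB, Subgroup.mem_bot, commutatorElement_eq_one_iff_commute] at h1
    exact h1
  obtain ⟨A', -, hA', hcard, hlt, hAN, hle⟩ := replacement' hp he (P := (⊤ : Subgroup S))
    (hS.to_subgroup _) le_top le_top (Subgroup.normalizer_eq_top_iff.2 inferInstance).ge hB2 hA
    (fun x hx y hy => hBA (Subgroup.commutator_mem_commutator hx hy)) hne
  have hA'D : A' ≤ D := hle.trans (sup_le hAD ((Subgroup.commutator_mono le_rfl hAD).trans (Subgroup.commutator_le_right _ _)))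
  have hA'max : A' ∈ maxAb e D := ⟨hA'D, hA', fun C hC hC' => (hmax C hC hC').trans hcard⟩
  have hBA' : ⁅B, B⁆ ≤ A' :=
    (le_inf hBA (Subgroup.commutator_le_right _ _)).trans (hlt.le.trans inf_le_left)
  have hnB' : ¬ B ≤ A' := fun hc => hne (hc.trans hAN)
  have h1 := hbest ⟨A', hA'max, hBA', hnB'⟩
  have h2 : Nat.card ↥(A ⊓ B) < Nat.card ↥(A' ⊓ B) := by
    refine lt_of_le_of_ne (Subgroup.card_le_of_le hlt.le) fun hc => hlt.ne ?_
    exact Subgroup.eq_of_le_of_card_ge hlt.le hc.ge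
  exact absurd h1 (by simp only [not_le]; exact h2)

theorem image_maxElementary {S : Type*} [Group S] (p : ℕ) (D : Subgroup S) :
    Set.image (fun A : Subgroup ↥D => A.map D.subtype) (Cfsg.maxElementaryAbelianSubgroups p ↥D) = maxAb p D := by
  have h : Cfsg.maxElementaryAbelianSubgroups p ↥D = maxAb p (⊤ : Subgroup ↥D) := by
    ext A
    simp only [Cfsg.maxElementaryAbelianSubgroups, maxAb, AbExp, Cfsg.IsElementaryAbelian,
      Set.mem_ofPred_eq, le_top, true_and, forall_const]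
    have hc : ∀ B : Subgroup ↥D, IsMulCommutative B ↔ ∀ x ∈ B, ∀ y ∈ B, x * y = y * x := fun B =>
      ⟨fun _ x hx y hy => congrArg Subtype.val (mul_comm' (⟨x, hx⟩ : B) ⟨y, hy⟩),
        fun h => ⟨⟨fun x y => Subtype.ext (h x x.2 y y.2)⟩⟩⟩
    simp only [hc]
  rw [h]
  refine (maxAb_map p (injOn_of_injective D.subtype_injective ⊤)).symm.trans ?_
  rw [← MonoidHom.range_eq_map, Subgroup.range_subtype]

theorem image_maxAbelian {S : Type*} [Group S] (D : Subgroup S) :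
    Set.image (fun A : Subgroup ↥D => A.map D.subtype) (Cfsg.maxAbelianSubgroups ↥D) = maxAb 0 D := by
  have h : Cfsg.maxAbelianSubgroups ↥D = maxAb 0 (⊤ : Subgroup ↥D) := by
    ext A
    simp only [Cfsg.maxAbelianSubgroups, maxAb, AbExp, pow_zero, implies_true, and_true,
      Set.mem_ofPred_eq, le_top, true_and, forall_const]
    have hc : ∀ B : Subgroup ↥D, IsMulCommutative B ↔ ∀ x ∈ B, ∀ y ∈ B, x * y = y * x := fun B =>
      ⟨fun _ x hx y hy => congrArg Subtype.val (mul_comm' (⟨x, hx⟩ : B) ⟨y, hy⟩),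
        fun h => ⟨⟨fun x y => Subtype.ext (h x x.2 y y.2)⟩⟩⟩
    simp only [hc]
  rw [h]
  refine (maxAb_map 0 (injOn_of_injective D.subtype_injective ⊤)).symm.trans ?_
  rw [← MonoidHom.range_eq_map, Subgroup.range_subtype]

end CfsgLib.PLocal
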